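import Cfsg.Agent.Lib.Recog.FiM23.ReflectionTuple
import Cfsg.Agent.Lib.Recog.FiM22.Tuple.Find
import Cfsg.Agent.Lib.Recog.FiM22Two.CentM23
import Cfsg.Agent.Lib.Recog.FiThree.Transpositions

set_option autoImplicit false
set_option maxRecDepth 20000

/-!
A group of type M(23) is the presented Fischer group Fi23 with its class of transpositions (owner: helper13).
-/

namespace CfsgLib.Recog.FiM23

open Cfsg CfsgLib.ThreeTrans CfsgLib.Recog.FiM22.Factor CfsgLib.Recog.SporBound
open CfsgLib.Recog.FiM22Two (Sec22 exists_sec22 im_mem_set)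
open CfsgLib.Recog.FiM22.Tuple (adjT pos8)
open CfsgLib.ThreeTrans.CosetIndex (letters hom_eq_prod)

universe u

variable {G : Type u} [Group G] [Finite G] {D : Set G}

/-- Eight common neighbours of two far members with the pattern of the diagram. -/
theorem exists_far_tuple (hD : IsThreeTranspositionGroup D) (h : IsOfTypeM23 G D) :
    ∃ d ∈ D, ∃ y ∈ D, ¬ Commute d y ∧ ∃ t : ℕ → G, (∀ i < 8, t i ∈ nb D d ∩ nb D y) ∧
      ∀ i < 8, ∀ j < 8, Commute (t i) (t j) ↔ adjT i j = false := by
  obtain ⟨-, d, hd, y, hy, hdy, -, c, hc, hL⟩ := h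
  refine ⟨d, hd, y, hy, hdy, ?_⟩
  set N := nb D d ∩ nb D y with hN
  set L := Subgroup.closure N
  let mk : L →* L ⧸ Subgroup.center L := QuotientGroup.mk' _
  set S : Set (L ⧸ Subgroup.center L) := mk '' {x : L | (x : G) ∈ N}
  have hset := hD.1
  have h2 : ∀ s ∈ S, s * s = 1 := by
    rintro _ ⟨x, hx, rfl⟩
    rw [← map_mul, show x * x = 1 from Subtype.ext (mul_self hset hx.1.1), map_one]
  have h3 : ∀ s ∈ S, ∀ t ∈ S, (s * t) ^ 2 = 1 ∨ (s * t) ^ 3 = 1 := by
    rintro _ ⟨x, hx, rfl⟩ _ ⟨x', hx', rfl⟩
    by_cases hxx : Commute (x : G) (x' : G)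
    · left
      rw [← map_mul, ← map_pow, show (x * x') ^ 2 = 1 from Subtype.ext (by
        show ((x : G) * x') ^ 2 = 1
        rw [hxx.mul_pow, pow_two, pow_two, mul_self hset hx.1.1, mul_self hset hx'.1.1, one_mul]), map_one]
    · right
      rw [← map_mul, ← map_pow, show (x * x') ^ 3 = 1 from Subtype.ext (pow_three hset hx.1.1 hx'.1.1 hxx),
        map_one]
  have hconj : ∀ g, ∀ s ∈ S, g * s * g⁻¹ ∈ S := by
    rintro g _ ⟨x, hx, rfl⟩
    obtain ⟨k, rfl⟩ := QuotientGroup.mk'_surjective (Subgroup.center L) g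
    refine ⟨k * x * k⁻¹, ?_, by simp [mk, map_mul, map_inv]⟩
    have hfix : ∀ z, (∀ w ∈ N, Commute z w) → (k : G) * z * (k : G)⁻¹ = z := fun z hz => by
      rw [← (RankThree.commute_closure hz k.2).eq, mul_inv_cancel_right]
    have h1 := hfix d fun w hw => hw.1.2.2
    have h2 := hfix y fun w hw => hw.2.2.2
    show (k : G) * x * (k : G)⁻¹ ∈ nb D d ∩ nb D y
    exact ⟨⟨hD.2.1 _ _ hx.1.1, fun e => hx.1.2.1 (mul_left_cancel (mul_right_cancel (e.trans h1.symm))),
      h1 ▸ commute_conj_iff.2 hx.1.2.2⟩,
      hD.2.1 _ _ hx.1.1, fun e => hx.2.2.1 (mul_left_cancel (mul_right_cancel (e.trans h2.symm))),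
      h2 ▸ commute_conj_iff.2 hx.2.2.2⟩
  have hgen : Subgroup.closure S = ⊤ := by
    rw [← MonoidHom.map_closure, show Subgroup.closure {x : L | (x : G) ∈ N} = ⊤ from
      Subgroup.closure_closure_coe_preimage, ← MonoidHom.range_eq_map]
    exact MonoidHom.range_eq_top.2 (QuotientGroup.mk'_surjective _)
  obtain ⟨s, hsS, hpat⟩ := exists_tuple h2 h3 hconj hgen hc hL
  choose x hx hxs using fun i (hi : i < 8) => hsS i hi
  let t : ℕ → G := fun i => if hi : i < 8 then (x i hi : G) else 1
  have ht : ∀ i (hi : i < 8), t i = (x i hi : G) := fun i hi => dif_pos hi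
  refine ⟨t, fun i hi => ht i hi ▸ hx i hi, fun i hi j hj => ?_⟩
  rw [ht i hi, ht j hj, ← hpat i hi j hj]
  constructor
  · intro hc
    rw [← hxs i hi, ← hxs j hj]
    exact (show Commute (x i hi) (x j hj) from Subtype.ext hc.eq).map mk
  · intro hcs
    by_contra hn
    have h3' : (s i * s j) ^ 3 = 1 := by
      rw [← hxs i hi, ← hxs j hj, ← map_mul, ← map_pow,
        show (x i hi * x j hj) ^ 3 = 1 from Subtype.ext (pow_three hset (hx i hi).1.1 (hx j hj).1.1 hn), map_one]
    have hs2 : (s i * s j) ^ 2 = 1 := by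
      rw [hcs.mul_pow, pow_two, pow_two, h2 _ (hsS i hi), h2 _ (hsS j hj), one_mul]
    rw [pow_succ, hs2, one_mul] at h3'
    have e : s i = s j := by
      rw [eq_inv_of_mul_eq_one_left h3']
      exact inv_eq_of_mul_eq_one_right (h2 _ (hsS j hj))
    have hij := FiM22.Tuple.distinct_of_pattern hpat i hi j hj e
    subst hij
    exact hn (Commute.refl _)

/-- The pairs of letters: the label is one, two or three, and short pairs are pairs of the smaller presentation. -/
theorem pair_checked : FiThree.gens.all (fun x => FiThree.gens.all fun z =>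
    (Nat.beq (Spor.coxLabel Spor.Fi23.edges x z) 1 || Nat.beq (Spor.coxLabel Spor.Fi23.edges x z) 2 ||
      Nat.beq (Spor.coxLabel Spor.Fi23.edges x z) 3) &&
    (cond (Nat.blt (FiThree.gens.idxOf x) 9 && Nat.blt (FiThree.gens.idxOf z) 9)
      ((CfsgLib.ThreeTrans.CosetIndex.relWords Spor.Fi22.edges Spor.Fi22.extra Cfsg.Agent.S1687.gens).contains
        (List.replicate (Spor.coxLabel Spor.Fi23.edges x z) [FiThree.gens.idxOf x, FiThree.gens.idxOf z]).flatten)
      (cond (Nat.beq (FiThree.gens.idxOf x) (FiThree.gens.idxOf z))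
        (Nat.beq (Spor.coxLabel Spor.Fi23.edges x z) 1)
        (cond (Nat.beq (FiThree.gens.idxOf x + FiThree.gens.idxOf z) 15)
          (Nat.beq (Spor.coxLabel Spor.Fi23.edges x z) 3)
          (Nat.beq (Spor.coxLabel Spor.Fi23.edges x z) 2))))) = true := by decide +kernel

/-- The two further relators use eight letters and are relators of the smaller presentation. -/
theorem extra_checked : Spor.Fi23.extra.all (fun r =>
    (letters FiThree.gens r).all (fun x => pos8.contains x) &&
    (CfsgLib.ThreeTrans.CosetIndex.relWords Spor.Fi22.edges Spor.Fi22.extra Cfsg.Agent.S1687.gens).contains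
      (letters FiThree.gens r)) = true := by decide +kernel

theorem pos8_spec : ∀ x < 9, x ∉ pos8 → x = 6 := by decide

theorem gens_mem : ∀ y : Spor.Fi23.Gen, y ∈ FiThree.gens ∧ FiThree.gens.idxOf y < 10 := by
  intro y; cases y <;> decide

theorem closure_letters : Subgroup.closure {g : Spor.Fi22 | ∃ x < 9, g = Fi22Group.a x} = ⊤ := by
  refine eq_top_iff.2 ?_
  rw [← PresentedGroup.closure_range_of, Subgroup.closure_le]
  rintro _ ⟨y, rfl⟩
  refine Subgroup.subset_closure ⟨Cfsg.Agent.S1687.gens.idxOf y, ?_, ?_⟩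
  · cases y <;> decide
  · rw [Fi22Group.a, gen_of Fi22Group.nodes]

/-- The identification with Fi23. -/
theorem identify_of_type (hD : IsThreeTranspositionGroup D) (hprim : IsPrimitiveUnderConj D)
    (h : IsOfTypeM23 G D) : ∃ e : Spor.Fi23 ≃* G, e '' FiThree.trans = D := by
  have hZ := h.1
  obtain ⟨d₀, S⟩ := exists_sec22 hD hprim h
  obtain ⟨d, hd, y', hy', hdy', t', ht', hpat'⟩ := exists_far_tuple hD h
  have hset := hD.1
  obtain ⟨g, hg⟩ := hprim.1 d hd d₀ S.mem
  -- transport to the member with a section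
  set y := g * y' * g⁻¹ with hy
  have hyD : y ∈ D := hD.2.1 g y' hy'
  have hdy : ¬ Commute d₀ y := fun hc => hdy' ((commute_conj_iff (g := g)).1 (by rwa [hg]))
  let t : ℕ → G := fun i => g * t' i * g⁻¹
  have ht : ∀ i < 8, t i ∈ nb D d₀ ∧ Commute y (t i) := fun i hi =>
    ⟨⟨hD.2.1 g _ (ht' i hi).1.1, fun e => (ht' i hi).1.2.1 (mul_left_cancel (mul_right_cancel (e.trans hg.symm))),
      hg ▸ commute_conj_iff.2 (ht' i hi).1.2.2⟩, commute_conj_iff.2 (ht' i hi).2.2.2⟩
  let T : ℕ → SecG D d₀ := fun i => if hi : i < 8 then im (ht i hi).1 else 1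
  have hT : ∀ i (hi : i < 8), T i = im (ht i hi).1 := fun i hi => dif_pos hi
  obtain ⟨e, he, hpos⟩ := FiM22.Tuple.exists_iso S.grp S.prim S.type (t := T)
    (fun i hi => hT i hi ▸ im_mem_set (ht i hi).1) (fun i hi j hj => by
      rw [hT i hi, hT j hj, S.comm_iff, ← hpat' i hi j hj]
      exact commute_conj_iff)
  have hex : ∀ x, ∃ f, (x < 9 → ∃ hf : f ∈ nb D d₀, im hf = e (Fi22Group.a x)) := by
    intro x
    by_cases hx : x < 9
    · obtain ⟨k, hk⟩ := Fi22Aut.conj_letter hx
      have hm : e (Fi22Group.a x) ∈ secSet D d₀ \ {1} := by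
        rw [S.sec_eq, ← he]
        exact ⟨_, isConj_iff.2 ⟨k, hk.symm⟩, rfl⟩
      obtain ⟨f, hf, e'⟩ := exists_of_mem_sec hm
      exact ⟨f, fun _ => ⟨hf.1, e'.symm⟩⟩
    · exact ⟨1, fun h => absurd h hx⟩
  choose lab hlab using hex
  let L : ℕ → G := fun x => if x < 9 then lab x else if x = 9 then y else 1
  have hL : ∀ x < 9, L x = lab x := fun x hx => if_pos hx
  have hL9 : L 9 = y := rfl
  have hsq : ∀ x, L x * L x = 1 := fun x => by
    by_cases hx : x < 9
    · rw [hL x hx]; exact mul_self hset (hlab x hx).1.1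
    · by_cases h9 : x = 9
      · subst h9; exact mul_self hset hyD
      · simp [L, hx, h9]
  set H := Subgroup.closure (nb D d₀)
  let mk : H →* SecG D d₀ := QuotientGroup.mk' _
  -- a word in the nine letters evaluated in the subgroup of the neighbours
  have hword : ∀ w : List ℕ, (∀ x ∈ w, x < 9) → ∃ u : H, (u : G) = (w.map L).prod ∧
      mk u = e ((w.map Fi22Group.a).prod) := by
    intro w hw
    induction w with
    | nil => exact ⟨1, rfl, by simp⟩
    | cons x w ih =>
      obtain ⟨u, hu, hu'⟩ := ih fun z hz => hw z (List.mem_cons_of_mem _ hz)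
      have hx := hw x List.mem_cons_self
      obtain ⟨hf, him⟩ := hlab x hx
      refine ⟨⟨lab x, Subgroup.subset_closure hf⟩ * u, by simp [hu, hL x hx], ?_⟩
      rw [map_mul, hu', List.map_cons, List.prod_cons, map_mul, ← him]
      rfl
  have hy8 : ∀ x ∈ pos8, Commute (L x) y := by
    intro x hx
    have hx9 : x < 9 := (by decide : ∀ x ∈ pos8, x < 9) x hx
    obtain ⟨j, hj, hej⟩ := hpos x hx
    obtain ⟨hf, him⟩ := hlab x hx9
    rw [hT j hj, ← him] at hej
    rw [hL x hx9, S.inj hf (ht j hj).1 hej]
    exact (ht j hj).2.symm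
  -- the nine letters generate the subgroup of the neighbours
  set R := Subgroup.closure {f : G | ∃ x < 9, f = L x} with hR
  have hcover : ∀ q : SecG D d₀, ∃ u : H, (u : G) ∈ R ∧ mk u = q := by
    intro q
    obtain ⟨a, rfl⟩ := e.surjective q
    have ha : a ∈ Subgroup.closure {g : Spor.Fi22 | ∃ x < 9, g = Fi22Group.a x} :=
      closure_letters ▸ Subgroup.mem_top a
    induction ha using Subgroup.closure_induction with
    | mem g hg =>
      obtain ⟨x, hx, rfl⟩ := hg
      obtain ⟨hf, him⟩ := hlab x hx
      exact ⟨⟨lab x, Subgroup.subset_closure hf⟩, Subgroup.subset_closure ⟨x, hx, (hL x hx).symm⟩, him⟩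
    | one => exact ⟨1, one_mem _, by simp⟩
    | mul p q _ _ hp hq =>
      obtain ⟨u, hu, hu'⟩ := hp
      obtain ⟨v, hv, hv'⟩ := hq
      exact ⟨u * v, mul_mem hu hv, by rw [map_mul, hu', hv', map_mul]⟩
    | inv p _ hp =>
      obtain ⟨u, hu, hu'⟩ := hp
      exact ⟨u⁻¹, inv_mem hu, by rw [map_inv, hu', map_inv]⟩
  have hnbR : ∀ f ∈ nb D d₀, f ∈ R := by
    intro f hf
    have hm : im hf ∈ secSet D d₀ := im_mem_set hf
    rw [← he] at hm
    obtain ⟨z, hz, hze⟩ := hm
    obtain ⟨k, rfl⟩ := isConj_iff.1 hz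
    obtain ⟨u, hu, hu'⟩ := hcover (e k)
    obtain ⟨hf0, him0⟩ := hlab 0 (by norm_num)
    have hud : Commute (u : G) d₀ := (S.closure_comm u.2).symm
    have heq : im (S.conj_nb hud hf0) = im hf := by
      rw [← hze, map_mul, map_mul, map_inv, ← hu', ← him0]
      rfl
    rw [← S.inj _ hf heq]
    exact mul_mem (mul_mem hu (Subgroup.subset_closure ⟨0, by norm_num, (hL 0 (by norm_num)).symm⟩)) (inv_mem hu)
  -- the far member does not commute with the seventh letter
  have hy6 : ¬ Commute (L 6) y := by
    intro hc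
    have hall : ∀ f ∈ nb D d₀, Commute y f := fun f hf => by
      refine RankThree.commute_closure (fun z hz => ?_) (hnbR f hf)
      obtain ⟨x, hx, rfl⟩ := hz
      by_cases hp : x ∈ pos8
      · exact (hy8 x hp).symm
      · rw [pos8_spec x hx hp]; exact hc.symm
    have hdH : Commute y d₀ := RankThree.commute_closure hall (S.mem_closure hZ)
    exact hdy hdH.symm
  have hrel : ∀ r ∈ Spor.coxRelators Spor.Fi23.edges ∪ {r | r ∈ Spor.Fi23.extra},
      FreeGroup.lift (fun z => L (FiThree.gens.idxOf z)) r = 1 := by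
    rintro r (⟨x, -, z, -, rfl⟩ | hr)
    · rw [map_pow, map_mul, FreeGroup.lift_apply_of, FreeGroup.lift_apply_of]
      have hck := List.all_eq_true.1 (List.all_eq_true.1 pair_checked x (gens_mem x).1) z (gens_mem z).1
      have hxl := (gens_mem x).2
      have hzl := (gens_mem z).2
      set p := FiThree.gens.idxOf x with hp
      set q := FiThree.gens.idxOf z with hq
      set m := Spor.coxLabel Spor.Fi23.edges x z with hm
      simp only [Bool.and_eq_true, Bool.or_eq_true, Nat.beq_eq] at hck
      obtain ⟨hm3, hck⟩ := hck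
      cases hs : Nat.blt p 9 && Nat.blt q 9 with
      | true =>
        simp only [Bool.and_eq_true] at hs
        have hp9 : p < 9 := by simpa using hs.1
        have hq9 : q < 9 := by simpa using hs.2
        rw [show (Nat.blt p 9 && Nat.blt q 9) = true by simp [hs.1, hs.2], cond_true] at hck
        have hone := relWord_one Fi22Group.nodes (List.contains_iff_mem.1 hck)
        rw [FiM22.prod_replicate] at hone
        simp only [List.map_cons, List.map_nil, List.prod_cons, List.prod_nil, mul_one] at hone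
        obtain ⟨hf, himf⟩ := hlab p hp9
        obtain ⟨hk, himk⟩ := hlab q hq9
        have hq' : (im hf * im hk : SecG D d₀) ^ m = 1 := by
          rw [himf, himk, ← map_mul, ← map_pow]
          exact (congrArg e hone).trans (map_one e)
        rw [hL p hp9, hL q hq9]
        have hcomm : Commute (im hf) (im hk) → Commute (lab p) (lab q) := (S.comm_iff hf hk).1
        have heq : (im hf * im hk : SecG D d₀) = 1 → lab p = lab q := fun h => S.inj hf hk (by
          rw [eq_inv_of_mul_eq_one_left h]
          exact inv_eq_of_mul_eq_one_right (im_mul_self hset hk))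
        rcases hm3 with (h1 | h2) | h3
        · rw [h1, pow_one] at hq' ⊢
          rw [heq hq']; exact mul_self hset hk.1
        · rw [h2] at hq' ⊢
          have hc : Commute (im hf) (im hk) := by
            rw [pow_two] at hq'
            have := eq_inv_of_mul_eq_one_left hq'
            rwa [mul_inv_rev, inv_eq_of_mul_eq_one_right (im_mul_self hset hk),
              inv_eq_of_mul_eq_one_right (im_mul_self hset hf)] at this
          rw [(hcomm hc).mul_pow, pow_two, pow_two, mul_self hset hf.1, mul_self hset hk.1, one_mul]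
        · rw [h3] at hq' ⊢
          by_cases hc : Commute (lab p) (lab q)
          · have hc' := (S.comm_iff hf hk).2 hc
            have h2' : (im hf * im hk : SecG D d₀) ^ 2 = 1 := by
              rw [hc'.mul_pow, pow_two, pow_two, im_mul_self hset hf, im_mul_self hset hk, one_mul]
            rw [pow_succ, h2', one_mul] at hq'
            rw [heq hq', mul_self hset hk.1, one_pow]
          · exact pow_three hset hf.1 hk.1 hc
      | false =>
        rw [show (Nat.blt p 9 && Nat.blt q 9) = false from hs, cond_false] at hck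
        have hor : p = 9 ∨ q = 9 := by
          simp only [Bool.and_eq_false_iff] at hs
          rcases hs with hs | hs
          · left
            have : ¬ p < 9 := fun h => Bool.eq_false_iff.1 hs (Nat.ble_eq_true_of_le h)
            omega
          · right
            have : ¬ q < 9 := fun h => Bool.eq_false_iff.1 hs (Nat.ble_eq_true_of_le h)
            omega
        by_cases hpq : p = q
        · rw [show Nat.beq p q = true from by rw [hpq]; exact Nat.beq_refl _, cond_true] at hck
          rw [Nat.eq_of_beq_eq_true hck, pow_one, hpq]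
          exact hsq q
        · rw [show Nat.beq p q = false from Bool.eq_false_iff.2 fun h => hpq (Nat.eq_of_beq_eq_true h),
            cond_false] at hck
          have hboth : L p ∈ D ∧ L q ∈ D := by
            have hmem : ∀ i < 10, L i ∈ D := fun i hi => by
              rcases Nat.lt_succ_iff_lt_or_eq.1 hi with h | rfl
              · rw [hL i h]; exact (hlab i h).1.1
              · exact hyD
            exact ⟨hmem p hxl, hmem q hzl⟩
          have hcase : ∀ i < 9, i ≠ 6 → Commute (L i) y := fun i hi h6 => hy8 i (by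
            by_contra hp'; exact h6 (pos8_spec i hi hp'))
          cases h15 : Nat.beq (p + q) 15 with
          | true =>
            rw [h15, cond_true] at hck
            rw [Nat.eq_of_beq_eq_true hck]
            have hsum := Nat.eq_of_beq_eq_true h15
            refine pow_three hset hboth.1 hboth.2 ?_
            rcases hor with e' | e'
            · rw [e', show q = 6 by omega, hL9]; exact fun h => hy6 h.symm
            · rw [e', show p = 6 by omega, hL9]; exact hy6
          | false =>
            rw [h15, cond_false] at hck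
            rw [Nat.eq_of_beq_eq_true hck]
            have hne : p + q ≠ 15 := fun h => by rw [h] at h15; exact absurd h15 (by decide)
            have hc : Commute (L p) (L q) := by
              rcases hor with e' | e'
              · rw [e', hL9]; exact (hcase q (by omega) (by omega)).symm
              · rw [e', hL9]; exact hcase p (by omega) (by omega)
            rw [hc.mul_pow, pow_two, pow_two, hsq, hsq, one_mul]
    · rw [hom_eq_prod FiThree.gens (FreeGroup.lift fun z => L (FiThree.gens.idxOf z)) L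
        (fun z => FreeGroup.lift_apply_of) hsq r]
      have hck := List.all_eq_true.1 extra_checked r hr
      simp only [Bool.and_eq_true, List.all_eq_true] at hck
      obtain ⟨hlt, hin⟩ := hck
      set w := letters FiThree.gens r
      have hw : ∀ x ∈ w, x ∈ pos8 := fun x hx => List.contains_iff_mem.1 (hlt x hx)
      obtain ⟨u, hu, hu'⟩ := hword w fun x hx => (by decide : ∀ x ∈ pos8, x < 9) x (hw x hx)
      rw [relWord_one Fi22Group.nodes (List.contains_iff_mem.1 hin), map_one] at hu'
      have hcen : ∀ f ∈ nb D d₀, Commute (u : G) f := fun f hf => (congrArg Subtype.val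
        (Subgroup.mem_center_iff.1 ((QuotientGroup.eq_one_iff _).1 hu') ⟨f, Subgroup.subset_closure hf⟩)).symm
      have huy : Commute (u : G) y := by
        rw [hu]
        refine (Commute.list_prod_right _ y fun z hz => ?_).symm
        obtain ⟨x, hx, rfl⟩ := List.mem_map.1 hz
        exact (hy8 x (hw x hx)).symm
      rw [← hu]
      refine S.center_G hZ fun z hz => ?_
      refine RankThree.commute_closure ?_ (S.setting.max S.mem hyD hdy ▸ Subgroup.mem_top z)
      rintro v (⟨hv, hdv⟩ | rfl)
      · by_cases ev : v = d₀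
        · exact ev ▸ (S.closure_comm u.2).symm
        · exact hcen v ⟨hv, ev, hdv⟩
      · exact huy
  let ψ : Spor.Fi23 →* G := PresentedGroup.toGroup hrel
  have hψ : ∀ x, x < 10 → ψ (FiThree.gg x) = L x := by
    intro x hx
    obtain ⟨z, rfl⟩ : ∃ z, FiThree.gens.idxOf z = x := by
      have h : ∀ x < 10, ∃ z ∈ FiThree.gens, FiThree.gens.idxOf z = x := by decide
      obtain ⟨z, -, hz⟩ := h x hx
      exact ⟨z, hz⟩
    rw [FiThree.gg, gen_of FiThree.nodes]
    exact PresentedGroup.toGroup.of hrel
  have hsurj : Function.Surjective ψ := by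
    rw [← MonoidHom.range_eq_top, eq_top_iff, ← S.setting.max S.mem hyD hdy, Subgroup.closure_le]
    have hRle : R ≤ ψ.range := (Subgroup.closure_le _).2 fun z ⟨x, hx, hz⟩ => ⟨_, (hψ x (by omega)).trans hz.symm⟩
    have hHle : H ≤ ψ.range := (Subgroup.closure_le _).2 fun f hf => hRle (hnbR f hf)
    rintro v (⟨hv, hdv⟩ | rfl)
    · by_cases ev : v = d₀
      · exact ev ▸ hHle (S.mem_closure hZ)
      · exact hHle (Subgroup.subset_closure ⟨hv, ev, hdv⟩)
    · exact ⟨_, hψ 9 (by norm_num)⟩
  haveI := FiThree.isSimple_fi23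
  have hinj : Function.Injective ψ := by
    rcases ψ.normal_ker.eq_bot_or_eq_top with h | h
    · exact (MonoidHom.ker_eq_bot_iff ψ).1 h
    · exfalso
      have h1 : ψ (FiThree.gg 9) = 1 := MonoidHom.mem_ker.1 (h ▸ Subgroup.mem_top _)
      rw [hψ 9 (by norm_num), hL9] at h1
      exact hdy (h1 ▸ Commute.one_right d₀)
  let E : Spor.Fi23 ≃* G := MulEquiv.ofBijective ψ ⟨hinj, hsurj⟩
  refine ⟨E, ?_⟩
  have hzz : E FiThree.zz ∈ D := by
    have h9 : E (FiThree.gg 9) ∈ D := by
      show ψ (FiThree.gg 9) ∈ D
      rw [hψ 9 (by norm_num), hL9]; exact hyD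
    rw [show E FiThree.zz = (E (FiThree.word FiThree.gj))⁻¹ * E (FiThree.gg 9) * (E (FiThree.word FiThree.gj))⁻¹⁻¹ by
      rw [← FiThree.gj_zz]; simp only [map_mul, map_inv]; group]
    exact hD.2.1 _ _ h9
  ext v
  constructor
  · rintro ⟨z, hz, rfl⟩
    obtain ⟨k, rfl⟩ := FiThree.mem_trans.1 hz
    rw [map_mul, map_mul, map_inv]
    exact hD.2.1 _ _ hzz
  · intro hv
    obtain ⟨k, rfl⟩ := hprim.1 _ hzz v hv
    refine ⟨E.symm k * FiThree.zz * (E.symm k)⁻¹, FiThree.mem_trans.2 ⟨_, rfl⟩, ?_⟩
    rw [map_mul, map_mul, map_inv, MulEquiv.apply_symm_apply]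

end CfsgLib.Recog.FiM23
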