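import Cfsg.Agent.Lib.Recog.FiM23.Witness
import Cfsg.Agent.Lib.Recog.FiM22.Tuple.Base

set_option autoImplicit false

/-!
A set of involutions with products of order at most three generating the projective reflection group in dimension
seven of discriminant minus the norm contains eight members with the commuting pattern of the diagram with arms of
four, three and three nodes (owner: helper13).
-/

namespace CfsgLib.Recog.FiM23

open Cfsg CfsgLib.Classical.Quad
open CfsgLib.ThreeTrans.ReflectionsF3 (elt toOQ toOQ_injective toOQ_elt commute_elt reflectionSubgroup_eq)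
open CfsgLib.Recog.FiM22.Tuple (adjT)
open QuadraticMap (polar polarBilin)

local notation "V7" => Fin 7 → ZMod 3
local notation "reflQ" => CfsgLib.Classical.Quad.refl

/-- Coordinates of eight vectors with the pattern of the diagram. -/
def eight : List (List (ZMod 3)) :=
  [[1, 0, 0, 0, 0, 0, 0], [1, 0, 0, 0, 1, 1, 1], [0, 0, 0, 0, 0, 0, 1], [0, 0, 0, 1, 1, 1, 1],
   [0, 0, 1, 1, 1, 2, 0], [0, 0, 1, 0, 0, 0, 0], [0, 1, 0, 1, 1, 2, 0], [0, 1, 0, 0, 0, 0, 0]]

/-- A coordinate of one of the eight vectors. -/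
def co (i : ℕ) (k : Fin 7) : ZMod 3 := (eight.getD i []).getD (k : ℕ) 0

theorem co_norm : ∀ i < 8, ∑ k : Fin 7, co i k * co i k = 1 := by decide +kernel

theorem co_pattern : ∀ i < 8, ∀ j < 8, i ≠ j → (adjT i j = false ↔ ∑ k : Fin 7, co i k * co j k = 0) := by
  decide +kernel

theorem adj_self : ∀ i < 8, adjT i i = false := by decide +kernel

theorem row_differs : ∀ i < 8, ∀ j < 8, i ≠ j →
    (∃ m < 8, m ≠ i ∧ m ≠ j ∧ adjT i m ≠ adjT j m) ∨ adjT i j = false := by decide +kernel

theorem sq_ne_neg_one3 : ∀ r : ZMod 3, r * r ≠ -1 := by decide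

theorem norm_cases3 : ∀ c a : ZMod 3, c ≠ 0 → a ≠ 0 → a = c ∨ a = -c := by decide

theorem pm_of_sq3 : ∀ t : ZMod 3, t * t = 1 → t = 1 ∨ t = -1 := by decide

theorem gram_det3 : ∀ c d m : ZMod 3, c ≠ 0 → m = -c → d ≠ 0 → d ^ 2 * ((-c) ^ 7 * m) = 1 := by decide

theorem neg_one_not_square3 : ¬ IsSquare (-1 : ZMod 3) := fun ⟨r, hr⟩ => sq_ne_neg_one3 r hr.symm

theorem neg_one_ne_one3 : (-1 : ZMod 3) ≠ 1 := by decide

theorem others : ∀ i j : Fin 7, i ≠ j → ∃ k l : Fin 7, k ≠ i ∧ k ≠ j ∧ l ≠ i ∧ l ≠ j ∧ l ≠ k := by decide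

variable {Q : QuadraticForm (ZMod 3) (Fin 7 → ZMod 3)} {c : ZMod 3}

/-- An orthogonal basis of vectors of norm `c`. -/
theorem exists_ortho (hQ : (polarBilin Q).Nondegenerate) (hc : c ≠ 0) (hd : polarGramDet (⇑Q) = -c) :
    ∃ b : Module.Basis (Fin 7) (ZMod 3) V7, (∀ i, Q (b i) = c) ∧ ∀ i j, i ≠ j → polar Q (b i) (b j) = 0 := by
  haveI : Fact (Nat.Prime 3) := ⟨Nat.prime_three⟩
  set B : LinearMap.BilinForm (ZMod 3) V7 := (-c) • polarBilin Q with hB
  have hn : -c ≠ 0 := neg_ne_zero.2 hc
  have hS : B.IsSymm := ⟨fun u v => by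
    show -c * polar Q u v = -c * polar Q v u
    rw [QuadraticMap.polar_comm]⟩
  have hN : B.Nondegenerate :=
    ⟨fun x hx => hQ.1 x fun y => (mul_eq_zero.1 (hx y)).resolve_left hn,
      fun x hx => hQ.2 x fun y => (mul_eq_zero.1 (hx y)).resolve_left hn⟩
  obtain ⟨b, hb1, hb2, hb3⟩ := exists_normal_basis two_ne3 neg_one_not_square3 6 B hS hN finrank_seven
  have hdet := det_gram_of_isometry b (Pi.basisFun (ZMod 3) (Fin 7)) B B (LinearEquiv.refl _ _) fun u v => rfl
  rw [det_gram_diag b B hb1] at hdet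
  have hM : LinearMap.BilinForm.toMatrix (Pi.basisFun (ZMod 3) (Fin 7)) B =
      (-c) • Matrix.of fun i j : Fin 7 => polar Q (Pi.single i 1) (Pi.single j 1) := by
    ext i j
    rw [LinearMap.BilinForm.toMatrix_apply]
    simp [hB]
  have hprod : ∏ i, B (b i) (b i) = B (b (Fin.last 6)) (b (Fin.last 6)) := by
    refine Finset.prod_eq_single _ (fun i _ hi => hb2 i hi) fun h => absurd (Finset.mem_univ _) h
  rw [hM, hprod, Matrix.det_smul, Fintype.card_fin] at hdet
  have hnd : (LinearMap.toMatrix b (Pi.basisFun (ZMod 3) (Fin 7)) ((LinearEquiv.refl (ZMod 3) V7) : V7 →ₗ[ZMod 3] V7)).det ≠ 0 := by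
    intro h0
    rw [h0, zero_pow two_ne_zero, zero_mul] at hdet
    rcases hb3 with h | h <;> rw [h] at hdet
    · exact one_ne_zero hdet
    · exact (neg_ne_zero.2 one_ne_zero) hdet
  have hlast : B (b (Fin.last 6)) (b (Fin.last 6)) = 1 := by
    rw [hdet, show (Matrix.of fun i j : Fin 7 => polar Q (Pi.single i 1) (Pi.single j 1)).det = -c from hd]
    exact gram_det3 _ _ _ hc rfl hnd
  refine ⟨b, fun i => ?_, fun i j hij => (mul_eq_zero.1 (hb1 i j hij)).resolve_left hn⟩
  have h : -c * polar Q (b i) (b i) = 1 := by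
    by_cases hi : i = Fin.last 6
    · rw [hi]; exact hlast
    · exact hb2 i hi
  rw [polar_self'] at h
  have hcc := CfsgLib.ThreeTrans.ReflectionsF3.sq_of_ne c hc
  linear_combination c * h + Q (b i) * hcc * 2 + Q (b i) * three_eq3

section Basis

variable (hQ : (polarBilin Q).Nondegenerate) (hc : c ≠ 0) {b : Module.Basis (Fin 7) (ZMod 3) V7}
  (hb : ∀ i, Q (b i) = c) (ho : ∀ i j, i ≠ j → polar Q (b i) (b j) = 0)
include hb ho

theorem polar_sum (k l : Fin 7 → ZMod 3) :
    polar Q (∑ i, k i • b i) (∑ i, l i • b i) = 2 * c * ∑ i, k i * l i := by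
  classical
  show polarBilin Q (∑ i, k i • b i) (∑ i, l i • b i) = _
  simp only [map_sum, map_smul, LinearMap.sum_apply, LinearMap.smul_apply, QuadraticMap.polarBilin_apply_apply,
    smul_eq_mul, Finset.mul_sum]
  refine Finset.sum_congr rfl fun i _ => ?_
  rw [Finset.sum_eq_single i (fun j _ hj => by simp [ho j i hj]) (fun h => absurd (Finset.mem_univ _) h),
    polar_self', hb]
  ring

theorem apply_sum (k : Fin 7 → ZMod 3) : Q (∑ i, k i • b i) = c * ∑ i, k i * k i := by
  haveI : Fact (Nat.Prime 3) := ⟨Nat.prime_three⟩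
  have h := polar_sum hb ho k k
  rw [polar_self', mul_assoc] at h
  exact mul_left_cancel₀ two_ne3 h

theorem polar_coord (v : V7) (i : Fin 7) : polar Q v (b i) = b.repr v i * (2 * c) := by
  classical
  conv_lhs => rw [← b.sum_repr v, show b i = ∑ j, (Pi.single i (1 : ZMod 3) : Fin 7 → ZMod 3) j • b j by
    simp [Pi.single_apply]]
  rw [polar_sum hb ho]
  simp [Pi.single_apply, mul_comm]

include hQ in
theorem prod_refl (hc : c ≠ 0) : ∀ (l : List (Fin 7)), l.Nodup → ∀ j,
    ev ((l.map fun i => reflQ (show Q (b i) ≠ 0 by rw [hb]; exact hc)).prod) (b j) =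
      if j ∈ l then -b j else b j
  | [], _, j => by simp [ev]
  | i :: l, hl, j => by
    rw [List.nodup_cons] at hl
    rw [List.map_cons, List.prod_cons, ev_mul, prod_refl hc l hl.2 j]
    by_cases hji : j = i
    · subst hji
      rw [if_neg hl.1, if_pos List.mem_cons_self]
      exact reflMap_self (show Q (b j) ≠ 0 by rw [hb]; exact hc)
    · have hfix : ev (reflQ (show Q (b i) ≠ 0 by rw [hb]; exact hc)) (b j) = b j := reflMap_perp (ho j i hji)
      by_cases hm : j ∈ l
      · rw [if_pos hm, if_pos (List.mem_cons_of_mem _ hm), map_neg, hfix]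
      · rw [if_neg hm, if_neg (by simp [hji, hm]), hfix]

include hQ hc in
theorem negO_mem : negO hQ ∈ classReflGroup Q c := by
  have e : negO hQ = ((List.finRange 7).map fun i => reflQ (show Q (b i) ≠ 0 by rw [hb]; exact hc)).prod := by
    refine Subtype.ext (b.ext' fun j => ?_)
    show ev (negO hQ) (b j) = ev _ (b j)
    rw [negO_apply, prod_refl hQ hb ho hc _ (List.nodup_finRange 7), if_pos (List.mem_finRange j)]
  rw [e]
  refine list_prod_mem fun x hx => ?_
  obtain ⟨i, -, rfl⟩ := List.mem_map.1 hx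
  exact refl_mem_class _ (by rw [hb])

include hQ hc in
theorem scalar_of_commute {z : OQ Q}
    (hz : ∀ (v : V7) (hv : Q v ≠ 0), Q v = c → z * reflQ hv * z⁻¹ = reflQ hv) : z = 1 ∨ z = negO hQ := by
  classical
  haveI : Fact (Nat.Prime 3) := ⟨Nat.prime_three⟩
  have hline : ∀ v, Q v = c → ∃ t : ZMod 3, ev z v = t • v ∧ t * t = 1 := by
    intro v hv
    have hv0 : Q v ≠ 0 := by rw [hv]; exact hc
    have h := hz v hv0 hv
    rw [refl_conj] at h
    have he := congrArg (fun g : OQ Q => ev g (ev z v)) h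
    change reflMap Q (ev z v) (ev z v) = ev (reflQ hv0) (ev z v) at he
    rw [reflMap_self (by rw [show Q (ev z v) = Q v from OQ.map_apply z v]; exact hv0), refl_eval hv0 rfl] at he
    set k := (Q v)⁻¹ * polar Q (ev z v) v
    have h2 : (2 : ZMod 3) • ev z v = k • v := by rw [two_smul]; linear_combination (norm := module) -he
    refine ⟨2 * k, ?_, ?_⟩
    · rw [← smul_smul, ← h2, smul_smul, show (2 : ZMod 3) * 2 = 1 by rw [two_eq3]; ring, one_smul]
    · have e : ev z v = (2 * k) • v := by
        rw [← smul_smul, ← h2, smul_smul, show (2 : ZMod 3) * 2 = 1 by rw [two_eq3]; ring, one_smul]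
      have hq : Q (ev z v) = Q v := OQ.map_apply z v
      rw [e, apply_smul, hv] at hq
      exact (mul_eq_right₀ hc).1 hq
  choose ε hε1 hε2 using fun i => hline (b i) (hb i)
  have hall : ∀ i j, ε i = ε j := by
    intro i j
    by_cases hij : i = j
    · rw [hij]
    obtain ⟨k, l, h1, h2, h3, h4, h5⟩ := others i j hij
    set s : Finset (Fin 7) := {i, j, k, l}
    let f : Fin 7 → ZMod 3 := fun m => if m ∈ s then 1 else 0
    have hs : s.card = 4 := by simp [s, hij, h1.symm, h2.symm, h3.symm, h4.symm, h5.symm]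
    have hsum : ∑ m, f m * f m = 1 := by
      simp only [f, mul_ite, mul_one, mul_zero, ite_self]
      rw [show (∑ m, if m ∈ s then (if m ∈ s then (1 : ZMod 3) else 0) else 0) = ∑ m ∈ s, (1 : ZMod 3) by
        rw [← Finset.sum_filter]
        simp, Finset.sum_const, hs, nsmul_one]
      rw [show ((4 : ℕ) : ZMod 3) = 3 + 1 by norm_num, three_eq3, zero_add]
    obtain ⟨t, ht, -⟩ := hline (∑ m, f m • b m) (by rw [apply_sum hb ho, hsum, mul_one])
    rw [map_sum, Finset.smul_sum] at ht
    simp only [map_smul, hε1, smul_smul] at ht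
    have hm : ∀ m, f m * ε m = t * f m := fun m => by
      have := congrArg (fun v => b.repr v m) ht
      simpa [Module.Basis.repr_self, Finsupp.single_apply] using this
    have hi := hm i
    have hj := hm j
    simp [f, s] at hi hj
    rw [hi, hj]
  rcases pm_of_sq3 (ε 0) (hε2 0) with h | h
  · left
    refine Subtype.ext (b.ext' fun i => ?_)
    show ev z (b i) = b i
    rw [hε1, hall i 0, h, one_smul]
  · right
    refine Subtype.ext (b.ext' fun i => ?_)
    show ev z (b i) = ev (negO hQ) (b i)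
    rw [hε1, hall i 0, h, negO_apply, neg_one_smul]

end Basis

theorem eq_refl_of_eig {g : OQ Q} (hg : g * g = 1) (hQ : (polarBilin Q).Nondegenerate) {ε : ZMod 3} (hε : ε ≠ 0)
    (h1 : Module.finrank (ZMod 3) (eig g (-ε)) ≤ 1) :
    g = 1 ∨ g = negO hQ ∨ ∃ (v : V7) (hv : Q v ≠ 0), g = reflQ hv ∨ g = negO hQ * reflQ hv := by
  haveI : Fact (Nat.Prime 3) := ⟨Nat.prime_three⟩
  have hε1 := pm_of_sq3 ε (CfsgLib.ThreeTrans.ReflectionsF3.sq_of_ne _ hε)
  rcases Nat.le_one_iff_eq_zero_or_eq_one.1 h1 with h0 | h0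
  · have hall : ∀ z, ev g z = ε • z := fun z => by
      obtain ⟨a, ha, b, hb, rfl⟩ := split hg hε z
      have : b = 0 := by rw [Submodule.finrank_eq_zero.1 h0] at hb; simpa using hb
      rw [this, add_zero]; exact ha
    rcases hε1 with rfl | rfl
    · exact Or.inl (ext_ev fun z => by rw [hall, one_smul]; rfl)
    · exact Or.inr (Or.inl (ext_ev fun z => by rw [hall, negO_apply, neg_one_smul]))
  · obtain ⟨⟨v, hvW⟩, hv0, hspan⟩ := finrank_eq_one_iff'.1 h0
    have hn := nondeg_eig hQ hg (neg_ne_zero.2 hε)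
    have hv : Q v ≠ 0 := by
      intro hq
      refine hv0 (hn.1 _ fun y => ?_)
      obtain ⟨t, rfl⟩ := hspan y
      show polar (Q.comp (eig g (-ε)).subtype) ⟨v, hvW⟩ (t • ⟨v, hvW⟩) = 0
      rw [polar_smul_right', polar_self', show (Q.comp (eig g (-ε)).subtype) ⟨v, hvW⟩ = Q v from rfl, hq]
      ring
    have hall : ∀ z, ev g z = ε • ev (reflQ hv) z := fun z => by
      obtain ⟨a, ha, b, hb, rfl⟩ := split hg hε z
      obtain ⟨t, ht⟩ := hspan ⟨b, hb⟩
      have hbt : t • v = b := congrArg Subtype.val ht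
      have e1 : ev (reflQ hv) a = a := reflMap_perp (polar_eig hε ha hvW)
      have e2 : ev (reflQ hv) v = -v := reflMap_self hv
      rw [map_add, map_add, mem_eig.1 ha, mem_eig.1 hb, e1, ← hbt, map_smul, e2, smul_add, smul_neg, smul_neg,
        neg_smul]
    refine Or.inr (Or.inr ⟨v, hv, ?_⟩)
    rcases hε1 with rfl | rfl
    · exact Or.inl (ext_ev fun z => by rw [hall, one_smul])
    · exact Or.inr (ext_ev fun z => by rw [hall, ev_mul, negO_apply, neg_one_smul])

variable {K : Type*} [Group K]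

/-- Eight members with the pattern of the diagram. -/
theorem exists_tuple {S : Set K} (h2 : ∀ s ∈ S, s * s = 1)
    (h3 : ∀ s ∈ S, ∀ t ∈ S, (s * t) ^ 2 = 1 ∨ (s * t) ^ 3 = 1) (hconj : ∀ g, ∀ s ∈ S, g * s * g⁻¹ ∈ S)
    (hgen : Subgroup.closure S = ⊤) (hc : c ≠ 0) (h : IsProjReflectionGroupModThree K 7 (-c) c) :
    ∃ t : ℕ → K, (∀ i < 8, t i ∈ S) ∧ ∀ i < 8, ∀ j < 8, Commute (t i) (t j) ↔ adjT i j = false := by
  haveI : Fact (Nat.Prime 3) := ⟨Nat.prime_three⟩
  obtain ⟨Q, hQ, hd, ⟨φ⟩⟩ := h
  obtain ⟨b, hb, ho⟩ := exists_ortho hQ hc hd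
  set R := reflectionSubgroup (⇑Q) c
  set Z := Subgroup.center R
  set f : R →* OQ Q := toOQ (Q := Q) (c := c) with hf
  have finj : Function.Injective f := toOQ_injective
  have hlift : ∀ a ∈ classReflGroup Q c, ∃ r : R, f r = a := by
    intro a ha
    refine ⟨⟨(oEquiv Q).symm a, ?_⟩, (MulEquiv.apply_symm_apply (oEquiv Q) a : f ⟨(oEquiv Q).symm a, _⟩ = a)⟩
    show (oEquiv Q).symm a ∈ reflectionSubgroup (⇑Q) c
    rw [reflectionSubgroup_eq Q hc]
    show oEquiv Q ((oEquiv Q).symm a) ∈ classReflGroup Q c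
    rw [MulEquiv.apply_symm_apply]; exact ha
  have hfmem : ∀ r : R, f r ∈ classReflGroup Q c := fun r => by
    have h := r.2
    rw [show ((r : isometryGroup (ZMod 3) (⇑Q)) ∈ R) =
      ((r : isometryGroup (ZMod 3) (⇑Q)) ∈ reflectionSubgroup (⇑Q) c) from rfl, reflectionSubgroup_eq Q hc] at h
    exact h
  have hcen : ∀ r : R, r ∈ Z ↔ f r = 1 ∨ f r = negO hQ := by
    intro r
    constructor
    · intro hr
      refine scalar_of_commute hQ hc hb ho fun v hv hvc => ?_
      rw [← toOQ_elt hc hvc, ← hf, ← map_inv, ← map_mul, ← map_mul]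
      rw [← Subgroup.mem_center_iff.1 hr (elt hc hvc), mul_inv_cancel_right]
    · intro hr
      rw [Subgroup.mem_center_iff]
      intro x
      apply finj
      rw [map_mul, map_mul]
      rcases hr with hr | hr <;> rw [hr]
      · simp
      · exact (negO_comm hQ _).symm
  let q : R →* R ⧸ Z := QuotientGroup.mk' Z
  have hq1 : ∀ r : R, q r = 1 ↔ f r = 1 ∨ f r = negO hQ := fun r => by
    rw [← hcen]; exact QuotientGroup.eq_one_iff r
  obtain ⟨rn, hrn⟩ := hlift _ (negO_mem hQ hc hb ho)
  have hqn : q rn = 1 := (hq1 rn).2 (Or.inr hrn)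
  -- the image of some member of `S` is that of a reflection
  obtain ⟨s, hs, hs1⟩ : ∃ s ∈ S, φ s ≠ 1 := by
    by_contra hall
    push Not at hall
    have h1 : ∀ x : K, φ x = 1 := fun x => by
      refine Subgroup.closure_induction (p := fun x _ => φ x = 1) hall (map_one φ)
        (fun a b _ _ ha hb => by rw [map_mul, ha, hb, one_mul]) (fun a _ ha => by rw [map_inv, ha, inv_one])
        (hgen ▸ Subgroup.mem_top x)
    have h2' := h1 (φ.symm (q (elt hc (hb 0))))
    rw [MulEquiv.apply_symm_apply, hq1, hf, toOQ_elt] at h2'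
    have hb0 : Q (b 0) ≠ 0 := by rw [hb]; exact hc
    rcases h2' with e | e <;> have e' := congrArg (fun g : OQ Q => ev g (b 0)) e <;>
      have e'' := congrArg (fun g : OQ Q => ev g (b 1)) e
    · have e0 : ev (reflQ hb0) (b 0) = -b 0 := reflMap_self hb0
      rw [e0] at e'
      have h20 : (2 : ZMod 3) • b 0 = 0 := by
        rw [two_smul]; exact eq_neg_iff_add_eq_zero.1 (show b 0 = -b 0 from e'.symm)
      exact b.ne_zero 0 ((smul_eq_zero.1 h20).resolve_left two_ne3)
    · have e1 : ev (reflQ hb0) (b 1) = b 1 := reflMap_perp (ho 1 0 (by decide))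
      rw [e1, negO_apply] at e''
      have h20 : (2 : ZMod 3) • b 1 = 0 := by
        rw [two_smul]; exact eq_neg_iff_add_eq_zero.1 e''
      exact b.ne_zero 1 ((smul_eq_zero.1 h20).resolve_left two_ne3)
  obtain ⟨r, hr⟩ : ∃ r, q r = φ s := QuotientGroup.mk'_surjective Z (φ s)
  set g := f r with hg
  have hgne : ¬ (g = 1 ∨ g = negO hQ) := fun e => hs1 (hr ▸ (hq1 r).2 e)
  have hgg : g * g = 1 := by
    have h0 : q (r * r) = 1 := by rw [map_mul, hr, ← map_mul, h2 s hs, map_one]
    rcases (hq1 _).1 h0 with e | e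
    · rwa [map_mul] at e
    · exfalso
      rw [map_mul] at e
      have hd2 := congrArg (fun g : OQ Q => LinearMap.det ((g : V7 ≃ₗ[ZMod 3] V7) : V7 →ₗ[ZMod 3] V7)) e
      rw [show (((g * g : OQ Q) : V7 ≃ₗ[ZMod 3] V7) : V7 →ₗ[ZMod 3] V7) =
          ((g : V7 ≃ₗ[ZMod 3] V7) : V7 →ₗ[ZMod 3] V7) * ((g : V7 ≃ₗ[ZMod 3] V7) : V7 →ₗ[ZMod 3] V7) from rfl,
        map_mul, show ((negO hQ : V7 ≃ₗ[ZMod 3] V7) : V7 →ₗ[ZMod 3] V7) = (-1 : ZMod 3) • LinearMap.id from
          LinearMap.ext fun v => by simp [negO],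
        LinearMap.det_smul, LinearMap.det_id, finrank_seven, mul_one] at hd2
      exact sq_ne_neg_one3 _ (hd2.trans (by ring))
  have href : ∃ (v : V7) (hv : Q v = c), φ s = q (elt hc hv) := by
    have small : ∀ ε : ZMod 3, ε ≠ 0 → Module.finrank (ZMod 3) (eig g (-ε)) ≤ 3 →
        ∃ (v : V7) (hv : Q v = c), φ s = q (elt hc hv) := by
      intro ε hε hle
      by_cases h1 : Module.finrank (ZMod 3) (eig g (-ε)) ≤ 1
      · rcases eq_refl_of_eig hgg hQ hε h1 with e | e | ⟨v, hv, e⟩
        · exact absurd (Or.inl e) hgne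
        · exact absurd (Or.inr e) hgne
        have hcls : reflQ hv ∈ classReflGroup Q c := by
          have hm : g ∈ classReflGroup Q c := hfmem r
          rcases e with e | e <;> rw [e] at hm
          · exact hm
          · have := mul_mem (negO_mem hQ hc hb ho) hm
            rwa [← mul_assoc, negO_sq, one_mul] at this
        have hvc : Q v = c := (norm_cases3 c (Q v) hc hv).resolve_right fun h => refl_not_mem hQ hc hv h hcls
        refine ⟨v, hvc, ?_⟩
        rcases e with e | e
        · rw [← hr, show r = elt hc hvc from finj (e.trans (toOQ_elt hc hvc).symm)]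
        · have : r = rn * elt hc hvc := finj (by rw [map_mul, hrn]; exact e.trans (by rw [hf, toOQ_elt]))
          rw [← hr, this, map_mul, hqn, one_mul]
      · exfalso
        have hsum := finrank_eig hgg hε
        obtain ⟨h, hh, ⟨a1, a2⟩, a3, a4⟩ := exists_witness hQ hc hgg hε (by omega) (by omega)
        obtain ⟨k, hk⟩ := hlift h hh
        set s' := φ.symm (q k) * s * (φ.symm (q k))⁻¹
        have hs' : s' ∈ S := hconj _ s hs
        have e : φ (s * s') = q (r * (k * r * k⁻¹)) := by
          simp only [s', map_mul, map_inv, MulEquiv.apply_symm_apply, hr]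
        have ef : f (r * (k * r * k⁻¹)) = g * (h * g * h⁻¹) := by
          simp only [map_mul, map_inv, hk, ← hg]
        rcases h3 s hs s' hs' with hp | hp
        · have := congrArg φ hp
          rw [map_pow, map_one, e, ← map_pow, hq1, map_pow, ef] at this
          exact this.elim a1 a2
        · have := congrArg φ hp
          rw [map_pow, map_one, e, ← map_pow, hq1, map_pow, ef] at this
          exact this.elim a3 a4
    by_cases hle : Module.finrank (ZMod 3) (eig g (-1)) ≤ 3
    · exact small 1 one_ne_zero hle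
    · have := finrank_eig hgg (one_ne_zero (α := ZMod 3))
      exact small (-1) (neg_ne_zero.2 one_ne_zero) (by rw [neg_neg]; omega)
  obtain ⟨v₀, hv₀, hφs⟩ := href
  have hall : ∀ (v : V7) (hv : Q v = c), φ.symm (q (elt hc hv)) ∈ S := by
    intro v hv
    obtain ⟨k, hk⟩ := (CfsgLib.ThreeTrans.ReflectionsF3.primitive hc hQ (by norm_num : 5 ≤ 7)).1.1 _
      (CfsgLib.ThreeTrans.ReflectionsF3.elt_mem hc hv₀) _ (CfsgLib.ThreeTrans.ReflectionsF3.elt_mem hc hv)
    have e : φ.symm (q (elt hc hv)) = φ.symm (q k) * s * (φ.symm (q k))⁻¹ := by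
      apply φ.injective
      simp only [map_mul, map_inv, MulEquiv.apply_symm_apply, hφs, ← hk]
    rw [e]; exact hconj _ s hs
  let x : ℕ → V7 := fun i => ∑ m, co (min i 7) m • b m
  have hx : ∀ i, Q (x i) = c := fun i => by
    show Q (∑ m, co (min i 7) m • b m) = c
    rw [apply_sum hb ho, co_norm _ (by omega), mul_one]
  refine ⟨fun i => φ.symm (q (elt hc (hx i))), fun i _ => hall _ _, fun i hi j hj => ?_⟩
  by_cases hij : i = j
  · subst hij
    exact iff_of_true (Commute.refl _) (adj_self i hi)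
  have hpol : ∀ m < 8, ∀ n < 8, m ≠ n → (adjT m n = false ↔ polar Q (x m) (x n) = 0) := by
    intro m hm n hn hmn
    show _ ↔ polar Q (∑ k, co (min m 7) k • b k) (∑ k, co (min n 7) k • b k) = 0
    rw [polar_sum hb ho, min_eq_left (by omega), min_eq_left (by omega), co_pattern m hm n hn hmn,
      mul_eq_zero, or_iff_right (mul_ne_zero two_ne3 hc)]
  rw [hpol i hi j hj hij]
  constructor
  · intro hcm
    by_contra hp
    set a := elt hc (hx i) with ha
    set a' := elt hc (hx j) with ha'
    have hcq : Commute (q a) (q a') := by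
      have := hcm.map φ.toMonoidHom
      simpa using this
    have hsa : ∀ {v : V7} (hv : Q v = c), elt hc hv * elt hc hv = 1 := fun hv =>
      finj (by rw [map_mul, map_one, hf, toOQ_elt, refl_mul_self])
    have hcube : (a * a') ^ 3 = 1 := CfsgLib.ThreeTrans.ReflectionsF3.three_of_braid (hsa _) (hsa _) (finj (by
      rw [map_mul, map_mul, map_mul, map_mul, hf, toOQ_elt, toOQ_elt]
      exact CfsgLib.ThreeTrans.ReflectionsF3.braid hc (hx i) (hx j) _ _ hp))
    have hz : (a * a') ^ 2 ∈ Z := (QuotientGroup.eq_one_iff _).1 (by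
      show q ((a * a') ^ 2) = 1
      rw [map_pow, map_mul, hcq.mul_pow, pow_two, pow_two, ← map_mul, ← map_mul, hsa, hsa, map_one, one_mul])
    have hzc := Subgroup.mem_center_iff.1 hz a
    have hab : (a * a') ^ 2 = 1 := by
      have hinv : a * (a * a') ^ 2 * a = ((a * a') ^ 2)⁻¹ := by
        rw [← inv_pow, mul_inv_rev, inv_eq_of_mul_eq_one_right (hsa (hx j)), inv_eq_of_mul_eq_one_right (hsa (hx i)),
          pow_two, pow_two]
        calc a * (a * a' * (a * a')) * a = (a * a) * (a' * a) * (a' * a) := by group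
          _ = _ := by rw [hsa, one_mul]
      rw [hzc, mul_assoc, hsa, mul_one] at hinv
      have h4 : (a * a') ^ 4 = 1 := by
        rw [show (4 : ℕ) = 2 + 2 from rfl, pow_add]; exact mul_eq_one_iff_eq_inv.2 hinv
      rw [pow_succ, hcube, one_mul] at h4
      rw [h4, one_pow]
    rw [pow_succ, hab, one_mul] at hcube
    have heq : a = a' := by
      rw [← mul_one a, ← hsa (hx j), ← mul_assoc, hcube, one_mul]
    have hfe : reflQ (show Q (x i) ≠ 0 by rw [hx]; exact hc) =
        reflQ (show Q (x j) ≠ 0 by rw [hx]; exact hc) := by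
      have := congrArg f heq
      rwa [hf, toOQ_elt, toOQ_elt] at this
    rcases row_differs i hi j hj hij with ⟨m, hm8, hmi, hmj, hne⟩ | hno
    · have pi := hpol m hm8 i hi hmi
      have pj := hpol m hm8 j hj hmj
      rw [CfsgLib.Recog.FiM22.Tuple.adjT_comm] at pi pj
      have he := congrArg (fun g : OQ Q => ev g (x m)) hfe
      simp only [refl_eval _ rfl, hx] at he
      cases hi' : adjT i m with
      | false =>
        have hj' : adjT j m ≠ false := by rw [← hi']; exact fun e => hne e.symm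
        rw [pi.1 hi', mul_zero, zero_smul, sub_zero, eq_comm, sub_eq_self, smul_eq_zero] at he
        rcases he with he | he
        · exact hj' (pj.2 ((mul_eq_zero.1 he).resolve_left (inv_ne_zero hc)))
        · exact hc (by rw [← hx j, he, QuadraticMap.map_zero])
      | true =>
        have hj' : adjT j m = false := by
          cases h : adjT j m with
          | false => rfl
          | true => exact absurd (hi'.trans h.symm) hne
        rw [pj.1 hj', mul_zero, zero_smul, sub_zero, sub_eq_self, smul_eq_zero] at he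
        rcases he with he | he
        · exact absurd (pi.2 ((mul_eq_zero.1 he).resolve_left (inv_ne_zero hc))) (by rw [hi']; decide)
        · exact hc (by rw [← hx i, he, QuadraticMap.map_zero])
    · exact hp ((hpol i hi j hj hij).1 hno)
  · intro hp
    exact ((show Commute (elt hc (hx i)) (elt hc (hx j)) from commute_elt hc _ _ hp).map q).map
      φ.symm.toMonoidHom

end CfsgLib.Recog.FiM23
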