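import Cfsg.Agent.Lib.ThreeTrans.ReflectionsF3Prim

set_option autoImplicit false

/-!
In dimension seven over the field with three elements an involution other than a scalar or a reflection times a scalar
has a conjugate, under the reflections of one norm, such that the product has order above three modulo scalars
(owner: helper13).
-/

namespace CfsgLib.Recog.FiM23

open Cfsg CfsgLib.Classical.Quad
open QuadraticMap (polar polarBilin)

variable {Q : QuadraticForm (ZMod 3) (Fin 7 → ZMod 3)}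

local notation "V7" => Fin 7 → ZMod 3

theorem two_ne3 : (2 : ZMod 3) ≠ 0 := by decide

theorem two_eq3 : (2 : ZMod 3) = -1 := by decide

theorem three_eq3 : (3 : ZMod 3) = 0 := by decide

theorem neg_one_ne_sq : ∀ r : ZMod 3, (-1 : ZMod 3) ≠ r * r := by decide

/-- An isometry as a map. -/
abbrev ev (g : OQ Q) : V7 ≃ₗ[ZMod 3] V7 := (g : V7 ≃ₗ[ZMod 3] V7)

theorem ev_mul (g h : OQ Q) (v : V7) : ev (g * h) v = ev g (ev h v) := rfl

theorem ext_ev {g h : OQ Q} (e : ∀ v, ev g v = ev h v) : g = h := Subtype.ext (LinearEquiv.ext e)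

theorem finrank_seven : Module.finrank (ZMod 3) V7 = 7 := by rw [Module.finrank_pi, Fintype.card_fin]

/-- The reflection in a vector. -/
local notation "reflQ" => CfsgLib.Classical.Quad.refl

variable (hQ : (polarBilin Q).Nondegenerate)

/-- Minus one. -/
noncomputable def negO : OQ Q := ofPreserves hQ (-LinearMap.id) fun z => by simp

theorem negO_apply (v : V7) : ev (negO hQ) v = -v := by simp [negO]

theorem negO_sq : negO hQ * negO hQ = 1 := ext_ev fun v => by
  rw [ev_mul, negO_apply, negO_apply, neg_neg]; rfl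

theorem negO_comm (g : OQ Q) : negO hQ * g = g * negO hQ := ext_ev fun v => by
  rw [ev_mul, ev_mul, negO_apply, negO_apply, map_neg]

theorem negO_ne_one : negO hQ ≠ 1 := by
  intro e
  have h := congrArg (fun g : OQ Q => ev g (Pi.single 0 1) 0) e
  change ev (negO hQ) (Pi.single 0 1) 0 = (Pi.single 0 (1 : ZMod 3) : V7) 0 at h
  rw [negO_apply, Pi.neg_apply, Pi.single_eq_same] at h
  exact absurd h (by decide)

include hQ in
theorem reflGroup_top : reflGroup Q = ⊤ := reflGroup_pi_eq_top hQ (hex_of_two_ne_zero two_ne3)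

include hQ in
theorem index_R {c : ZMod 3} (hc : c ≠ 0) : (classReflGroup Q c).index = 2 := by
  haveI : Fact (Nat.Prime 3) := ⟨Nat.prime_three⟩
  exact index_classReflGroup two_ne3 (by rw [finrank_seven]; norm_num) hQ (reflGroup_top hQ)
    (Or.inl (by rw [finrank_seven]; norm_num)) hc

include hQ in
/-- A reflection of the other norm lies outside. -/
theorem refl_not_mem {c : ZMod 3} (hc : c ≠ 0) {v : V7} (hv : Q v ≠ 0) (h : Q v = -c) :
    refl hv ∉ classReflGroup Q c := by
  haveI : Fact (Nat.Prime 3) := ⟨Nat.prime_three⟩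
  intro hmem
  have hne : sqc (-c) ≠ sqc c := by
    intro e
    rw [show -c = (-1 : ZMod 3) * c by ring, sqc_mul (show (-1 : ZMod 3) ≠ 0 from neg_ne_zero.2 one_ne_zero) hc, mul_eq_right,
      sqc_eq_one_iff (show (-1 : ZMod 3) ≠ 0 from neg_ne_zero.2 one_ne_zero)] at e
    obtain ⟨r, hr⟩ := e
    exact neg_one_ne_sq r hr
  have hle : classReflGroup Q c ≤ (Subgroup.zpowers ((Multiplicative.ofAdd (1 : ZMod 2), sqc c) :
      Multiplicative (ZMod 2) × SqClass (ZMod 3))).comap (invHom hQ (reflGroup_top hQ)) := by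
    refine (Subgroup.closure_le _).2 ?_
    rintro _ ⟨w, hw, hs, rfl⟩
    show invHom hQ (reflGroup_top hQ) (refl hw) ∈ Subgroup.zpowers ((Multiplicative.ofAdd (1 : ZMod 2), sqc c) :
      Multiplicative (ZMod 2) × SqClass (ZMod 3))
    rw [invHom_refl, hs]
    exact Subgroup.mem_zpowers _
  have h1 := hle hmem
  rw [Subgroup.mem_comap, invHom_refl, h, Subgroup.mem_zpowers_iff] at h1
  obtain ⟨z, hz⟩ := h1
  rcases Int.even_or_odd' z with ⟨k, rfl | rfl⟩
  · have h1 := congrArg (MonoidHom.fst (Multiplicative (ZMod 2)) (SqClass (ZMod 3))) hz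
    rw [map_zpow] at h1
    change (Multiplicative.ofAdd (1 : ZMod 2)) ^ (2 * k) = Multiplicative.ofAdd 1 at h1
    rw [zpow_mul, (by decide : (Multiplicative.ofAdd (1 : ZMod 2)) ^ (2 : ℤ) = 1), one_zpow] at h1
    exact absurd h1 (by decide)
  · have h1 := congrArg (MonoidHom.snd (Multiplicative (ZMod 2)) (SqClass (ZMod 3))) hz
    rw [map_zpow] at h1
    change (sqc c) ^ (2 * k + 1) = sqc (-c) at h1
    rw [zpow_add, zpow_mul, zpow_two, sqClass_mul_self, one_zpow, one_mul, zpow_one] at h1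
    exact hne h1.symm

/-- The vectors multiplied by `ε`. -/
def eig (g : OQ Q) (ε : ZMod 3) : Submodule (ZMod 3) V7 where
  carrier := {v | ev g v = ε • v}
  add_mem' {a b} ha hb := by simp only [Set.mem_setOf_eq] at *; rw [map_add, ha, hb, smul_add]
  zero_mem' := by simp
  smul_mem' t a ha := by simp only [Set.mem_setOf_eq] at *; rw [map_smul, ha, smul_comm]

theorem mem_eig {g : OQ Q} {ε : ZMod 3} {v : V7} : v ∈ eig g ε ↔ ev g v = ε • v := Iff.rfl

section Involution

variable {g : OQ Q} (hg : g * g = 1)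
include hg

theorem split {ε : ZMod 3} (hε : ε ≠ 0) (z : V7) :
    ∃ a ∈ eig g ε, ∃ b ∈ eig g (-ε), a + b = z := by
  have hεε : ε * ε = 1 := CfsgLib.ThreeTrans.ReflectionsF3.sq_of_ne _ hε
  have hgg : ev g (ev g z) = z := by rw [← ev_mul, hg]; rfl
  refine ⟨(2 : ZMod 3) • (z + ε • ev g z), ?_, (2 : ZMod 3) • (z - ε • ev g z), ?_, ?_⟩
  · rw [mem_eig, map_smul, map_add, map_smul, hgg, smul_comm ε (2 : ZMod 3), smul_add ε, smul_smul ε ε, hεε, one_smul,
      add_comm]
  · rw [mem_eig, map_smul, map_sub, map_smul, hgg, smul_comm (-ε) (2 : ZMod 3), smul_sub (-ε), smul_smul (-ε) ε,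
      neg_mul, hεε, neg_one_smul, neg_smul]
    abel_nf
  · rw [← smul_add, show z + ε • ev g z + (z - ε • ev g z) = (2 : ZMod 3) • z by rw [two_smul]; abel, smul_smul,
      show (2 : ZMod 3) * 2 = 1 by decide, one_smul]

omit hg in
theorem polar_eig {ε : ZMod 3} (hε : ε ≠ 0) {a b : V7} (ha : a ∈ eig g ε) (hb : b ∈ eig g (-ε)) :
    polar Q a b = 0 := by
  have h := OQ.map_polar g a b
  change polar Q (ev g a) (ev g b) = _ at h
  rw [mem_eig.1 ha, mem_eig.1 hb, polar_smul_left', polar_smul_right', ← mul_assoc, mul_neg,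
    CfsgLib.ThreeTrans.ReflectionsF3.sq_of_ne _ hε, neg_mul, one_mul] at h
  revert h
  generalize polar Q a b = p
  revert p
  decide

include hQ in
theorem nondeg_eig {ε : ZMod 3} (hε : ε ≠ 0) :
    (polarBilin (Q.comp (eig g ε).subtype)).Nondegenerate := by
  have key : ∀ x : eig g ε, (∀ y : eig g ε, polar Q (x : V7) y = 0) → x = 0 := by
    intro x hx
    refine Subtype.ext (hQ.1 _ fun z => ?_)
    obtain ⟨a, ha, b, hb, rfl⟩ := split hg hε z
    show polar Q (x : V7) (a + b) = 0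
    rw [polar_add_right', hx ⟨a, ha⟩, polar_eig hε x.2 hb, add_zero]
  have hp : ∀ x y : eig g ε, polar (Q.comp (eig g ε).subtype) x y = polar Q (x : V7) y := fun x y => by
    simp only [polar, QuadraticMap.comp_apply, Submodule.subtype_apply, Submodule.coe_add]
  exact ⟨fun x hx => key x fun y => by rw [← hp]; exact hx y,
    fun x hx => key x fun y => by rw [← hp, QuadraticMap.polar_comm]; exact hx y⟩

theorem finrank_eig {ε : ZMod 3} (hε : ε ≠ 0) :
    Module.finrank (ZMod 3) (eig g ε) + Module.finrank (ZMod 3) (eig g (-ε)) = 7 := by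
  haveI : Fact (Nat.Prime 3) := ⟨Nat.prime_three⟩
  have hC : IsCompl (eig g ε) (eig g (-ε)) := by
    refine ⟨Submodule.disjoint_def.2 fun x hx hx' => ?_, codisjoint_iff.2 (Submodule.eq_top_iff'.2 fun z => ?_)⟩
    · rw [mem_eig] at hx hx'
      have h : ε • x = -ε • x := hx.symm.trans hx'
      rw [← sub_eq_zero, ← sub_smul, sub_neg_eq_add, ← two_mul] at h
      exact (smul_eq_zero.1 h).resolve_left (mul_ne_zero two_ne3 hε)
    · obtain ⟨a, ha, b, hb, rfl⟩ := split hg hε z
      exact Submodule.add_mem_sup ha hb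
  rw [Submodule.finrank_add_eq_of_isCompl hC, finrank_seven]

end Involution

theorem refl_eval {v z : V7} (hv : Q v ≠ 0) {a : ZMod 3} (h : (Q v)⁻¹ * polar Q z v = a) :
    ev (refl hv) z = z - a • v := by rw [← h]; exact refl_apply hv z

/-- An involution with two dimensional small eigenspace has a conjugate with a long product. -/
theorem exists_witness {c : ZMod 3} (hc : c ≠ 0) {g : OQ Q} (hg : g * g = 1) {ε : ZMod 3} (hε : ε ≠ 0)
    (h2 : 2 ≤ Module.finrank (ZMod 3) (eig g (-ε))) (h4 : 4 ≤ Module.finrank (ZMod 3) (eig g ε)) :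
    ∃ h ∈ classReflGroup Q c, ((g * (h * g * h⁻¹)) ^ 2 ≠ 1 ∧ (g * (h * g * h⁻¹)) ^ 2 ≠ negO hQ) ∧
      (g * (h * g * h⁻¹)) ^ 3 ≠ 1 ∧ (g * (h * g * h⁻¹)) ^ 3 ≠ negO hQ := by
  haveI : Fact (Nat.Prime 3) := ⟨Nat.prime_three⟩
  set W := eig g (-ε) with hW
  set U := eig g ε with hU
  have hWn : (polarBilin (Q.comp W.subtype)).Nondegenerate := nondeg_eig hQ hg (neg_ne_zero.2 hε)
  have hUn : (polarBilin (Q.comp U.subtype)).Nondegenerate := nondeg_eig hQ hg hε
  obtain ⟨⟨w₁, hw₁W⟩, hw₁⟩ := exists_apply_eq hWn h2 hc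
  replace hw₁ : Q w₁ = c := hw₁
  have h2c : 2 * c ≠ 0 := mul_ne_zero two_ne3 hc
  obtain ⟨w₂, hw₂W, hw₂, hw₁₂⟩ : ∃ w₂ ∈ W, Q w₂ ≠ 0 ∧ polar Q w₁ w₂ = 0 := by
    by_contra hall
    push Not at hall
    let pr : W → V7 := fun z => (z : V7) - (polar Q w₁ z / (2 * c)) • w₁
    have hpr : ∀ z, pr z ∈ W ∧ polar Q w₁ (pr z) = 0 := fun z =>
      ⟨W.sub_mem z.2 (W.smul_mem _ hw₁W), by
        simp only [pr]
        rw [QuadraticMap.polar_sub_right, polar_smul_right', polar_self', hw₁, div_mul_cancel₀ _ h2c, sub_self]⟩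
    have hiso : ∀ a ∈ W, polar Q w₁ a = 0 → Q a = 0 := fun a ha hp => by
      by_contra hq
      exact hall a ha hq hp
    have hle : W ≤ Submodule.span (ZMod 3) {w₁} := by
      intro z hz
      set p := pr ⟨z, hz⟩ with hp
      obtain ⟨hpW, hpp⟩ := hpr ⟨z, hz⟩
      have hzero : (⟨p, hpW⟩ : W) = 0 := by
        refine hWn.1 _ fun y => ?_
        show polar (Q.comp W.subtype) ⟨p, hpW⟩ y = 0
        rw [show polar (Q.comp W.subtype) ⟨p, hpW⟩ y = polar Q p (y : V7) by
          simp only [polar, QuadraticMap.comp_apply, Submodule.subtype_apply, Submodule.coe_add]]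
        obtain ⟨hyW, hyp⟩ := hpr y
        have e : polar Q p (pr y) = 0 := by
          have hs := hiso _ (W.add_mem hpW hyW) (by rw [polar_add_right', hpp, hyp, add_zero])
          rwa [apply_add, hiso _ hpW hpp, hiso _ hyW hyp, add_zero, zero_add] at hs
        simp only [pr] at e
        rwa [QuadraticMap.polar_sub_right, polar_smul_right', QuadraticMap.polar_comm (⇑Q) p w₁, hpp, mul_zero,
          sub_zero] at e
      have : p = 0 := congrArg Subtype.val hzero
      rw [hp] at this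
      exact Submodule.mem_span_singleton.2 ⟨_, (sub_eq_zero.1 this).symm⟩
    have := (Submodule.finrank_mono hle).trans (finrank_span_singleton (K := ZMod 3)
      (v := w₁) (fun e => hc (by rw [← hw₁, e, QuadraticMap.map_zero]))).le
    omega
  obtain ⟨⟨y, hyU⟩, hy⟩ := exists_apply_eq hUn (by omega) hc
  replace hy : Q y = c := hy
  obtain ⟨x, hxU, hx0', hx, hyx⟩ : ∃ x ∈ U, x ≠ 0 ∧ Q x = 0 ∧ polar Q y x = 0 := by
    set QU := Q.comp U.subtype
    set y' : U := ⟨y, hyU⟩
    have hy' : QU y' = c := hy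
    obtain ⟨v₁, hv₁, hp₁⟩ := exists_apply_eq_perp_nondeg (Q := QU) hUn (P := Submodule.span (ZMod 3) {y'})
      (fun a ha h => by
        obtain ⟨t, rfl⟩ := Submodule.mem_span_singleton.1 ha
        have e := h y' (Submodule.mem_span_singleton_self _)
        rw [polar_smul_left', polar_self', hy'] at e
        rw [(mul_eq_zero.1 e).resolve_right h2c, zero_smul])
      (by
        have := finrank_span_le_card (R := ZMod 3) ({y'} : Set U)
        simp only [Set.toFinset_singleton, Finset.card_singleton] at this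
        omega) hc
    have hyv₁ := hp₁ y' (Submodule.mem_span_singleton_self _)
    obtain ⟨v₂, hv₂, hp₂⟩ := exists_apply_eq_perp_nondeg (Q := QU) hUn (P := Submodule.span (ZMod 3) {y', v₁})
      (fun a ha h => by
        obtain ⟨t, u, rfl⟩ := Submodule.mem_span_pair.1 ha
        have e0 := h y' (Submodule.subset_span (by simp))
        have e1 := h v₁ (Submodule.subset_span (by simp))
        rw [polar_add_left', polar_smul_left', polar_smul_left', polar_self', hy', QuadraticMap.polar_comm (⇑QU) v₁,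
          hyv₁, mul_zero, add_zero] at e0
        rw [polar_add_left', polar_smul_left', polar_smul_left', polar_self', hv₁, hyv₁, mul_zero, zero_add] at e1
        rw [(mul_eq_zero.1 e0).resolve_right h2c, (mul_eq_zero.1 e1).resolve_right h2c, zero_smul, zero_smul,
          add_zero])
      (by
        classical
        have h := finrank_span_finset_le_card (R := ZMod 3) ({y', v₁} : Finset U)
        have hle := h.trans (Finset.card_le_two (a := y') (b := v₁))
        rw [show (({y', v₁} : Finset U) : Set U) = ({y', v₁} : Set U) by simp] at hle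
        simp only [Set.finrank] at hle
        omega) (neg_ne_zero.2 hc)
    have hv₁₂ := hp₂ v₁ (Submodule.subset_span (by simp))
    have hyv₂ := hp₂ y' (Submodule.subset_span (by simp))
    have hpp : ∀ a b : U, polar QU a b = polar Q (a : V7) b := fun a b => by
      simp only [QU, polar, QuadraticMap.comp_apply, Submodule.subtype_apply, Submodule.coe_add]
    refine ⟨((v₁ + v₂ : U) : V7), (v₁ + v₂).2, fun e => ?_, ?_, ?_⟩
    · have e' : polar QU v₁ (v₁ + v₂) = 0 := by rw [hpp, e, QuadraticMap.polar_zero_right]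
      rw [polar_add_right', polar_self', hv₁, hv₁₂, add_zero] at e'
      exact h2c e'
    · show QU (v₁ + v₂) = 0
      rw [apply_add, hv₁, hv₂, hv₁₂]; ring
    · rw [show y = (y' : V7) from rfl, ← hpp, polar_add_right', hyv₁, hyv₂, add_zero]
  obtain ⟨⟨z, hzU⟩, hz⟩ := exists_apply_eq hUn (by omega) (neg_ne_zero.2 hc)
  replace hz : Q z = -c := hz
  have o : ∀ {a b : V7}, a ∈ U → b ∈ W → polar Q a b = 0 ∧ polar Q b a = 0 := fun ha hb =>
    ⟨polar_eig hε ha hb, by rw [QuadraticMap.polar_comm]; exact polar_eig hε ha hb⟩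
  have hu₁ : Q (w₁ + y) = 2 * c := by rw [apply_add, hw₁, hy, (o hyU hw₁W).2]; ring
  have hu₂ : Q (w₂ + x) = Q w₂ := by rw [apply_add, hx, (o hxU hw₂W).2]; ring
  have hv₁ : Q (-w₁ + y) = 2 * c := by
    rw [apply_add, QuadraticMap.map_neg, hw₁, hy, QuadraticMap.polar_neg_left, (o hyU hw₁W).2]; ring
  have hv₂ : Q (-w₂ + x) = Q w₂ := by
    rw [apply_add, QuadraticMap.map_neg, hx, QuadraticMap.polar_neg_left, (o hxU hw₂W).2]; ring
  have n₁ : Q (w₁ + y) ≠ 0 := by rw [hu₁]; exact h2c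
  have n₂ : Q (w₂ + x) ≠ 0 := by rw [hu₂]; exact hw₂
  have m₁ : Q (-w₁ + y) ≠ 0 := by rw [hv₁]; exact h2c
  have m₂ : Q (-w₂ + x) ≠ 0 := by rw [hv₂]; exact hw₂
  have nz : Q z ≠ 0 := by rw [hz]; exact neg_ne_zero.2 hc
  set r₁ := reflQ n₁ with hr₁
  set r₂ := reflQ n₂ with hr₂
  have hginv : g⁻¹ = g := inv_eq_of_mul_eq_one_right hg
  have hgu : ∀ {w u : V7}, w ∈ W → u ∈ U → ∀ (h : Q (w + u) ≠ 0) (h' : Q (-w + u) ≠ 0),
      g * refl h * g⁻¹ = refl h' := by
    intro w u hw hu h h'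
    rw [refl_conj]
    refine CfsgLib.ThreeTrans.ReflectionsF3.refl_eq _ _ hε ?_
    show ev g (w + u) = ε • (-w + u)
    rw [map_add, mem_eig.1 hw, mem_eig.1 hu, smul_add, smul_neg, neg_smul]
  set s₁ := reflQ m₁ with hs₁
  set s₂ := reflQ m₂ with hs₂
  have e₁ : g * r₁ * g⁻¹ = s₁ := hgu hw₁W hyU n₁ m₁
  have e₂ : g * r₂ * g⁻¹ = s₂ := hgu hw₂W hxU n₂ m₂
  have hcz : g * reflQ nz * g⁻¹ = reflQ nz := by
    rw [refl_conj]
    exact CfsgLib.ThreeTrans.ReflectionsF3.refl_eq _ _ hε (mem_eig.1 hzU)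
  obtain ⟨t, ht, htR⟩ : ∃ t : OQ Q, g * t * g⁻¹ = t ∧ r₁ * r₂ * t ∈ classReflGroup Q c := by
    by_cases hm : r₁ * r₂ ∈ classReflGroup Q c
    · exact ⟨1, by group, by rwa [mul_one]⟩
    · exact ⟨reflQ nz, hcz, (Subgroup.mul_mem_iff_of_index_two (index_R hQ hc)).2
        (iff_of_false hm (refl_not_mem hQ hc nz hz))⟩
  refine ⟨_, htR, ?_⟩
  have hP : g * (r₁ * r₂ * t * g * (r₁ * r₂ * t)⁻¹) = s₁ * s₂ * r₂ * r₁ := by
    calc g * (r₁ * r₂ * t * g * (r₁ * r₂ * t)⁻¹)
        = (g * r₁ * g⁻¹) * (g * r₂ * g⁻¹) * (g * t * g⁻¹) * (g * g) * t⁻¹ * r₂⁻¹ * r₁⁻¹ := by group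
      _ = s₁ * s₂ * r₂⁻¹ * r₁⁻¹ := by rw [e₁, e₂, ht, hg]; group
      _ = _ := by rw [hr₁, hr₂, inv_eq_of_mul_eq_one_right (refl_mul_self _),
        inv_eq_of_mul_eq_one_right (refl_mul_self _)]
  rw [hP]
  set P := s₁ * s₂ * r₂ * r₁ with hPdef
  have p12 : polar Q w₂ w₁ = 0 := by rw [QuadraticMap.polar_comm]; exact hw₁₂
  have pxy : polar Q x y = 0 := by rw [QuadraticMap.polar_comm]; exact hyx
  have hfix : ∀ {v u : V7} (hv : Q v ≠ 0), polar Q u v = 0 → ev (refl hv) u = u := fun hv h => by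
    rw [refl_eval hv (a := 0) (by rw [h, mul_zero]), zero_smul, sub_zero]
  have three : (3 : ZMod 3) = 0 := three_eq3
  have hA : ev P w₁ = -w₁ := by
    rw [hPdef, ev_mul, ev_mul, ev_mul]
    rw [refl_eval n₁ (a := 1) (by
      rw [hu₁, polar_add_right', polar_self', hw₁, (o hyU hw₁W).2, add_zero, inv_mul_cancel₀ h2c]), one_smul,
      show w₁ - (w₁ + y) = -y by abel,
      hfix n₂ (by rw [QuadraticMap.polar_neg_left, polar_add_right', (o hyU hw₂W).1, hyx]; simp),
      hfix m₂ (by rw [QuadraticMap.polar_neg_left, polar_add_right', QuadraticMap.polar_neg_right,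
        (o hyU hw₂W).1, hyx]; simp),
      refl_eval m₁ (a := -1) (by
        rw [hv₁, QuadraticMap.polar_neg_left, polar_add_right', QuadraticMap.polar_neg_right, polar_self', hy,
          (o hyU hw₁W).1, neg_zero, zero_add, mul_neg, inv_mul_cancel₀ h2c])]
    rw [neg_one_smul]; abel
  have hX : ev P x = x := by
    rw [hPdef, ev_mul, ev_mul, ev_mul, hfix n₁ (by rw [polar_add_right', (o hxU hw₁W).1, pxy, add_zero]),
      hfix n₂ (by rw [polar_add_right', (o hxU hw₂W).1, polar_self', hx]; ring),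
      hfix m₂ (by rw [polar_add_right', QuadraticMap.polar_neg_right, (o hxU hw₂W).1, polar_self', hx]; ring),
      hfix m₁ (by rw [polar_add_right', QuadraticMap.polar_neg_right, (o hxU hw₁W).1, pxy]; simp)]
  have x3 : x + x + x = 0 := by
    rw [show x + x + x = ((1 + 1 + 1 : ZMod 3)) • x by simp only [add_smul, one_smul],
      show (1 + 1 + 1 : ZMod 3) = 3 by norm_num, three, zero_smul]
  have hB : ev P w₂ = w₂ - x := by
    rw [hPdef, ev_mul, ev_mul, ev_mul, hfix n₁ (by rw [polar_add_right', p12, (o hyU hw₂W).2, add_zero]),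
      refl_eval n₂ (a := 2) (by
        rw [hu₂, polar_add_right', polar_self', (o hxU hw₂W).2, add_zero, mul_comm 2, ← mul_assoc,
          inv_mul_cancel₀ hw₂, one_mul]),
      refl_eval m₂ (a := 2) (by
        rw [hv₂, QuadraticMap.polar_sub_left, polar_smul_left', polar_add_left', polar_add_right' w₂,
          polar_add_right' x, QuadraticMap.polar_neg_right, QuadraticMap.polar_neg_right, polar_self', polar_self',
          hx, (o hxU hw₂W).1, (o hxU hw₂W).2]
        field_simp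
        linear_combination Q w₂ * (0 : ZMod 3)),
      hfix m₁ ?_]
    · rw [two_eq3, neg_one_smul, neg_one_smul, ← sub_eq_zero,
        show w₂ - -(w₂ + x) - -(-w₂ + x) - (w₂ - x) = x + x + x by abel, x3]
    · simp only [QuadraticMap.polar_sub_left, polar_smul_left', polar_add_left', polar_add_right',
        QuadraticMap.polar_neg_right, QuadraticMap.polar_neg_left, p12, (o hyU hw₂W).2, (o hxU hw₁W).1, pxy]
      ring
  have hw₁0 : w₁ ≠ 0 := fun e => hc (by rw [← hw₁, e, QuadraticMap.map_zero])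
  have hw₂0 : w₂ ≠ 0 := fun e => hw₂ (by rw [e, QuadraticMap.map_zero])
  have nn : ∀ {a : V7}, a ≠ 0 → a ≠ -a := fun {a} ha e => ha (by
    have : (2 : ZMod 3) • a = 0 := by rw [two_smul]; nth_rewrite 1 [e]; abel
    exact (smul_eq_zero.1 this).resolve_left two_ne3)
  have p2 : ∀ v, ev (P ^ 2) v = ev P (ev P v) := fun v => by rw [pow_two, ev_mul]
  have p3 : ∀ v, ev (P ^ 3) v = ev P (ev P (ev P v)) := fun v => by rw [pow_succ', ev_mul, p2]
  have d1 : ev (P ^ 2) w₁ = w₁ := by rw [p2, hA, map_neg, hA, neg_neg]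
  have d2 : ev (P ^ 2) w₂ = w₂ + x := by
    rw [p2, hB, map_sub, hB, hX, ← sub_eq_zero, show w₂ - x - x - (w₂ + x) = -(x + x + x) by abel, x3, neg_zero]
  have d3 : ev (P ^ 3) w₁ = -w₁ := by rw [p3, hA, map_neg, hA, neg_neg, hA]
  have d4 : ev (P ^ 3) w₂ = w₂ := by
    rw [p3, hB, map_sub, hB, hX, map_sub, map_sub, hB, hX, ← sub_eq_zero,
      show w₂ - x - x - x - w₂ = -(x + x + x) by abel, x3, neg_zero]
  refine ⟨⟨fun e => ?_, fun e => ?_⟩, fun e => ?_, fun e => ?_⟩
  · rw [e] at d2; exact hx0' (by simpa [ev] using d2.symm)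
  · rw [e, negO_apply] at d1; exact nn hw₁0 d1.symm
  · rw [e] at d3; exact nn hw₁0 (by simpa [ev] using d3)
  · rw [e, negO_apply] at d4; exact nn hw₂0 d4.symm

end CfsgLib.Recog.FiM23
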